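import Cfsg.Agent.H208.FixGood
import Cfsg.Agent.H628.ZOutOrth
import Cfsg.Agent.H561.RV.AutCrit
import Cfsg.Agent.LieRecognition.FieldSemilinear

/-!
# `AutOdd` for the orthogonal groups over finite fields (helper241)

* `exists_sigma` : the automorphism generating the odd part of the group of automorphisms of a finite field;
* `autOdd_P` : `Q` good over `F`, `Q₀` the same form over a subfield `F₀` of odd degree, `|P Q| / |P Q₀|` odd, all
  automorphisms of `P Q` induced by semisimilitudes: `AutOdd (P Q)`;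
* `autOdd_POmega` : the same for `POmega F Q`.
-/

set_option autoImplicit false
set_option linter.unusedSectionVars false

namespace Cfsg.Agent.H241.AO

open Cfsg Matrix QuadraticMap Cfsg.Agent.LieClassical.OrthCore Cfsg.Agent.LieClassical.OrthTrans
  Cfsg.Agent.ClassicalGeometry.OrthSemi Cfsg.Agent.ClassicalGeometry.OrthAut1
  Cfsg.Agent.AutOrth.SemiSim Cfsg.Agent.H198.OrthFrame Cfsg.Agent.H185.OrthCent Cfsg.Agent.H185.ExtKappa
  Cfsg.Agent.H208.ExtE Cfsg.Agent.H208.FixPt Cfsg.Agent.AutOrth.Main Cfsg.Agent.H208.FixGood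
open Cfsg.Agent.H561.RV

universe u v

/-- a generator of the odd part of the group of automorphisms of a finite field -/
theorem exists_sigma (F : Type*) [Field F] [Finite F] :
    ∃ σ₀ : F ≃+* F, Odd (orderOf σ₀) ∧ ∀ σ : F ≃+* F, ∃ n : ℕ, σ ^ 2 ^ n ∈ Subgroup.zpowers σ₀ := by
  have hc : IsCyclic (F ≃+* F) := LieRecognition.FieldSemilinear.isCyclic_ringAut F
  have hfin : Finite (F ≃+* F) :=
    Finite.of_injective (fun e : F ≃+* F => (e : F → F)) (fun a b h => RingEquiv.ext (congrFun h))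
  obtain ⟨γ, hγ⟩ := hc.exists_generator
  obtain ⟨a, m, hm, ho⟩ := Nat.exists_eq_two_pow_mul_odd (n := orderOf γ) (orderOf_pos γ).ne'
  refine ⟨γ ^ 2 ^ a, ?_, fun σ => ⟨a, ?_⟩⟩
  · rw [orderOf_pow_of_dvd (pow_ne_zero _ two_ne_zero) (ho ▸ dvd_mul_right _ _), ho,
      Nat.mul_div_cancel_left m (Nat.two_pow_pos a)]
    exact hm
  · obtain ⟨i, rfl⟩ := Subgroup.mem_zpowers_iff.1 (hγ σ)
    refine Subgroup.mem_zpowers_iff.2 ⟨i, ?_⟩
    rw [← zpow_natCast, ← zpow_natCast, ← _root_.zpow_mul, ← _root_.zpow_mul, mul_comm]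

theorem ringAut_comm {F : Type*} [Field F] [Finite F] (σ τ : F ≃+* F) : σ * τ = τ * σ := by
  have hc : IsCyclic (F ≃+* F) := LieRecognition.FieldSemilinear.isCyclic_ringAut F
  let _ : CommGroup (F ≃+* F) := IsCyclic.commGroup
  exact mul_comm σ τ

section Lin

variable {F V : Type*} [Field F] [AddCommGroup V] [Module F V] {Q : QuadraticForm F V}

theorem ss_mul {σ τ : F ≃+* F} {M N : Gam Q} (hM : ∃ c, IsSS Q σ c M.1) (hN : ∃ c, IsSS Q τ c N.1) :
    ∃ c, IsSS Q (σ * τ) c (M * N).1 := by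
  obtain ⟨c, hc⟩ := hM
  obtain ⟨d, hd⟩ := hN
  exact ⟨_, hc.mul hd⟩

theorem ss_inv {σ : F ≃+* F} {M : Gam Q} (hM : ∃ c, IsSS Q σ c M.1) : ∃ c, IsSS Q σ⁻¹ c (M⁻¹).1 := by
  obtain ⟨c, hc⟩ := hM
  exact ⟨_, hc.inv⟩

theorem ss_one : ∃ c, IsSS Q (1 : F ≃+* F) c (1 : Gam Q).1 :=
  ⟨1, one_ne_zero, fun _ _ => rfl, fun _ _ => rfl, fun _ => by rw [one_mul]; rfl⟩

theorem ss_pow {σ : F ≃+* F} {M : Gam Q} (hM : ∃ c, IsSS Q σ c M.1) (n : ℕ) : ∃ c, IsSS Q (σ ^ n) c (M ^ n).1 := by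
  induction n with
  | zero => rw [pow_zero, pow_zero]; exact ss_one
  | succ n ih => rw [pow_succ, pow_succ]; exact ss_mul ih hM

/-- the group of similitudes -/
def lin (Q : QuadraticForm F V) : Subgroup (Gam Q) where
  carrier := {M | ∃ c, IsSS Q (1 : F ≃+* F) c M.1}
  one_mem' := ss_one
  mul_mem' := fun {M N} hM hN => by
    have := ss_mul hM hN
    rwa [one_mul] at this
  inv_mem' := fun {M} hM => by
    have := ss_inv hM
    rwa [inv_one] at this

theorem mem_lin {M : Gam Q} : M ∈ lin Q ↔ ∃ c, IsSS Q (1 : F ≃+* F) c M.1 := Iff.rfl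

instance lin_normal : (lin Q).Normal where
  conj_mem := by
    intro M hM N
    obtain ⟨σ, hσ⟩ := N.2
    have h := ss_mul (ss_mul (M := N) hσ hM) (ss_inv hσ)
    rw [mul_one, mul_inv_cancel] at h
    exact h

theorem comm_mem_lin [Finite F] (M N : Gam Q) : M * N * M⁻¹ * N⁻¹ ∈ lin Q := by
  obtain ⟨σ, hσ⟩ := M.2
  obtain ⟨τ, hτ⟩ := N.2
  have h := ss_mul (ss_mul (ss_mul (M := M) hσ (N := N) hτ) (ss_inv (M := M) hσ)) (ss_inv (M := N) hτ)
  have h1 : σ * τ * σ⁻¹ * τ⁻¹ = 1 := by rw [ringAut_comm σ τ]; group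
  rw [h1] at h
  exact h

end Lin

/-- a group with a normal subgroup of exponent dividing `4` and abelian factor group -/
theorem solvable_of {A : Type*} [Group A] [Finite A] (D : Subgroup A) [D.Normal]
    (h4 : ∀ d ∈ D, d ^ 4 = 1) (hc : ∀ a b : A, a * b * a⁻¹ * b⁻¹ ∈ D) : Group.IsSolvable A := by
  have h2 : IsPGroup 2 D := by
    intro d
    refine ⟨2, ?_⟩
    apply Subtype.ext
    exact h4 d d.2
  have : Fact (Nat.Prime 2) := ⟨Nat.prime_two⟩
  have hn : Group.IsNilpotent D := h2.isNilpotent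
  have hD : Group.IsSolvable D := inferInstance
  have hq : Group.IsSolvable (A ⧸ D) := by
    refine Group.isSolvable_of_comm fun x y => ?_
    obtain ⟨a, rfl⟩ := QuotientGroup.mk'_surjective D x
    obtain ⟨b, rfl⟩ := QuotientGroup.mk'_surjective D y
    have h1 : (QuotientGroup.mk' D (a * b * a⁻¹ * b⁻¹)) = 1 := (QuotientGroup.eq_one_iff _).2 (hc a b)
    rw [map_mul, map_mul, map_mul, map_inv, map_inv, mul_inv_eq_one, mul_inv_eq_iff_eq_mul] at h1
    exact h1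
  exact Group.isSolvable_of_ker_le_range D.subtype (QuotientGroup.mk' D) (by
    rw [QuotientGroup.ker_mk', Subgroup.range_subtype])

/-- a Sylow `2`-subgroup inside a subgroup of odd index -/
theorem exists_sylow_le {A : Type*} [Group A] [Finite A] (R : Subgroup A) (h : ¬ 2 ∣ R.index) :
    ∃ P : Sylow 2 A, (P : Subgroup A) ≤ R := by
  have : Fact (Nat.Prime 2) := ⟨Nat.prime_two⟩
  obtain ⟨Q⟩ : Nonempty (Sylow 2 R) := inferInstance
  have h1 : ¬ 2 ∣ ((Q : Subgroup R).map R.subtype).index := by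
    rw [Subgroup.index_map_subtype]
    intro hd
    rcases (Nat.prime_two.dvd_mul).1 hd with h2 | h2
    · exact Q.not_dvd_index h2
    · exact h h2
  exact ⟨(Q.isPGroup'.map R.subtype).toSylow h1, Subgroup.map_subtype_le _⟩

section Main

variable {ι : Type} [Fintype ι] [DecidableEq ι] {F : Type u} [Field F] {F₀ : Type v} [Field F₀]
  {j : F₀ →+* F} {Q₀ : QuadraticForm F₀ (ι → F₀)} {Q : QuadraticForm F (ι → F)}

/-- **`AutOdd` for orthogonal groups** -/
theorem autOdd_P [Finite F] (hx : Ext j Q₀ Q) (hG₀ : Good Q₀) (hG : Good Q)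
    (hsurj : ∀ φ : MulAut (P Q), ∃ M : Gam Q, Psi Q M = φ)
    (hgal : ∀ σ : F ≃+* F, ∃ n : ℕ, ∀ b, (σ ^ 2 ^ n) (j b) = j b)
    (hfix : ∀ σ : F ≃+* F, (∀ b, σ (j b) = j b) → Fix σ Q)
    (hcard : (Nat.card (P Q)).factorization 2 = (Nat.card (P Q₀)).factorization 2) : AutOdd (P Q) := by
  have hfin : Finite (P Q) := Finite.of_equiv _ (pe hG).toEquiv
  have hfin0 : Finite (P Q₀) := Finite.of_equiv _ (embEquiv hx hG₀ hG).symm.toEquiv
  have hfinA : Finite (MulAut (P Q)) :=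
    Finite.of_injective (fun f : MulAut (P Q) => (f : P Q → P Q)) DFunLike.coe_injective
  have hR : Nat.card (emb hx).range = Nat.card (P Q₀) := Nat.card_congr (embEquiv hx hG₀ hG).symm.toEquiv
  have hidx : ¬ 2 ∣ (emb hx).range.index := by
    intro hd
    have h1 := (emb hx).range.card_mul_index
    rw [hR] at h1
    have h2 : Nat.card (P Q₀) ≠ 0 := Nat.card_pos.ne'
    have h3 : (emb hx).range.index ≠ 0 := Subgroup.index_ne_zero_of_finite
    have h4 : (Nat.card (P Q)).factorization 2 =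
        (Nat.card (P Q₀)).factorization 2 + ((emb hx).range.index).factorization 2 := by
      rw [← h1, Nat.factorization_mul h2 h3]; rfl
    have h5 := (Nat.prime_two.dvd_iff_one_le_factorization h3).1 hd
    omega
  obtain ⟨P₀, hP₀⟩ := exists_sylow_le (emb hx).range hidx
  -- the layers
  set D : Subgroup (MulAut (P Q)) := (lin Q).map (Psi Q) with hD
  have hPsi : Function.Surjective (Psi Q) := hsurj
  have hDn : D.Normal := Subgroup.Normal.map inferInstance _ hPsi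
  have hID : Inn (P Q) ≤ D := by
    rintro _ ⟨x, rfl⟩
    obtain ⟨h, rfl⟩ := QuotientGroup.mk_surjective x
    refine ⟨H208.Parity.ofO h.1 (E_le_O h.2), ?_, H628.ZOutOrth.psi_ofO_E (E_le_O h.2) h.2⟩
    exact H208.ConjSS.lin_ofO
  have hAD : ∀ φ ψ : MulAut (P Q), φ * ψ * φ⁻¹ * ψ⁻¹ ∈ D := by
    intro φ ψ
    obtain ⟨M, rfl⟩ := hPsi φ
    obtain ⟨N, rfl⟩ := hPsi ψ
    exact ⟨M * N * M⁻¹ * N⁻¹, comm_mem_lin M N, by simp⟩
  have hD4 : ∀ δ ∈ D, δ ^ 4 ∈ Inn (P Q) := by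
    rintro _ ⟨M, ⟨c, hc⟩, rfl⟩
    obtain ⟨g, hg⟩ := H628.ZOutOrth.inner_gam hG (M := M) hc
    exact ⟨g, hg.symm⟩
  have hsol : Group.IsSolvable (Out (P Q)) := by
    have hn : (D.map (QuotientGroup.mk' (Inn (P Q)))).Normal :=
      Subgroup.Normal.map hDn _ (QuotientGroup.mk'_surjective _)
    refine solvable_of (D.map (QuotientGroup.mk' (Inn (P Q)))) ?_ ?_
    · rintro _ ⟨δ, hδ, rfl⟩
      rw [← map_pow]
      exact (QuotientGroup.eq_one_iff _).2 (hD4 δ hδ)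
    · intro a b
      obtain ⟨a, rfl⟩ := QuotientGroup.mk'_surjective _ a
      obtain ⟨b, rfl⟩ := QuotientGroup.mk'_surjective _ b
      exact ⟨a * b * a⁻¹ * b⁻¹, hAD a b, by simp⟩
  refine autOdd_of_layers hsol P₀ (fixingSubgroup (MulAut (P Q)) (P₀ : Set (P Q))) D
    (fun φ hφ x hx => (mem_fixingSubgroup_iff _).1 hφ x hx) hID hAD ?_
    (Or.inl fun δ hδ => ⟨2, hD4 δ hδ⟩)
  intro φ
  obtain ⟨M, rfl⟩ := hPsi φ
  obtain ⟨σ, hσ⟩ := M.2
  obtain ⟨n, hn⟩ := hgal σ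
  refine ⟨n, ?_⟩
  have hF := hfix _ hn
  have h1 : M ^ 2 ^ n = (M ^ 2 ^ n * (frobG hF)⁻¹) * frobG hF := by group
  rw [← map_pow, h1, map_mul]
  refine mul_mem (le_sup_right (α := Subgroup (MulAut (P Q))) ⟨_, ?_, rfl⟩)
    (le_sup_left (α := Subgroup (MulAut (P Q))) ?_)
  · have h2 : ∃ c, IsSS Q (σ ^ 2 ^ n) c (frobG hF).1 := by
      refine ⟨1, one_ne_zero, fun u v => ?_, fun a v => ?_, fun v => ?_⟩
      · simp only [frobG_apply]
        funext i
        exact map_add _ _ _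
      · simp only [frobG_apply]
        funext i
        exact map_mul _ _ _
      · rw [frobG_apply, one_mul]
        exact hF v
    have h3 := ss_mul (ss_pow (M := M) hσ (2 ^ n)) (ss_inv h2)
    rw [mul_inv_cancel] at h3
    exact h3
  · rw [mem_fixingSubgroup_iff]
    intro x hx'
    obtain ⟨a, rfl⟩ := hP₀ hx'
    exact Psi_frob_emb hx hF hn a

theorem autOdd_POmega [Finite F] (hx : Ext j Q₀ Q) (hG₀ : Good Q₀) (hG : Good Q)
    (hI : ∀ α : MulAut (POmega F ⇑Q), Ind ⇑Q α)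
    (hgal : ∀ σ : F ≃+* F, ∃ n : ℕ, ∀ b, (σ ^ 2 ^ n) (j b) = j b)
    (hfix : ∀ σ : F ≃+* F, (∀ b, σ (j b) = j b) → Fix σ Q)
    (hcard : (Nat.card (POmega F ⇑Q)).factorization 2 = (Nat.card (POmega F₀ ⇑Q₀)).factorization 2) :
    AutOdd (POmega F ⇑Q) := by
  refine (autOdd_P hx hG₀ hG (fun φ => ?_) hgal hfix ?_).of_equiv (pe hG)
  · obtain ⟨g, σ, hpair, hi⟩ := H198.OrthGamma.exists_pair (hI ((MulAut.congr (pe hG)).symm φ))
    obtain ⟨c, hc⟩ := H208.Dict.exists_isSS hpair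
    refine ⟨⟨H208.Dict.perm g σ, σ, c, hc⟩, ?_⟩
    rw [← (H208.Dict.induced_iff hG rfl).1 hi]
    exact (MulAut.congr (pe hG)).apply_symm_apply φ
  · rw [← Nat.card_congr (pe hG).toEquiv, hcard, Nat.card_congr (pe hG₀).toEquiv]

end Main

end Cfsg.Agent.H241.AO
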